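import Groth.Agent.HilbPt76.TangentSurj
import Groth.Agent.SurfInt.Curve
import Groth.Agent.HilbPt76.HomConormal
import Groth.Agent.Lib.PnDualSheafHom

/-! The tangent space of the local Hilbert functor is `H⁰` of the normal sheaf. -/

set_option autoImplicit false
set_option linter.style.haveILetI false
set_option backward.isDefEq.respectTransparency false

universe u

open CategoryTheory CategoryTheory.Limits AlgebraicGeometry ArtFun ArtFun.Art

namespace Groth.Agent.HilbTor76

open Groth.Agent.ArtFunLib Groth.Agent.HilbFin76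

variable {k : Type u} [Field k] {X : Scheme.{u}} [X.Over (Spec (CommRingCat.of k))] (I₀ : X.IdealSheafData)

/-- The tangent space is `Hom(I₀, O_Y)`. -/
theorem nonempty_tangent_equiv [TangentStr (localHilb X (X ↘ Spec (CommRingCat.of k)) I₀)] :
    Nonempty (TangentSpace (localHilb X (X ↘ Spec (CommRingCat.of k)) I₀) ≃ₗ[k]
      (ClSub.idealMod I₀ ⟶ ClSub.quotMod I₀)) := by
  choose Φ hΦ using exists_spec (X ↘ Spec (CommRingCat.of k)) I₀
  let L : TangentSpace (localHilb X (X ↘ Spec (CommRingCat.of k)) I₀) →ₗ[k]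
      (ClSub.idealMod I₀ ⟶ ClSub.quotMod I₀) :=
  { toFun := fun v => Φ v
    map_add' := fun v w => by
      obtain ⟨z, hz⟩ := (HilbFib.cmp_bijective X _ I₀ (isFibreProd_dual2 (Λ := k) (k := k))
        (toBase_surjective _)).2 ⟨(v, w), (HilbFib.h0 X _ I₀).2.elim _ _⟩
      have h1 : (localHilb X _ I₀).map pr₁ z = v := congrArg (fun q => q.1.1) hz
      have h2 : (localHilb X _ I₀).map pr₂ z = w := congrArg (fun q => q.1.2) hz
      have h3 := TangentStr.add_eq (F := localHilb X (X ↘ Spec (CommRingCat.of k)) I₀) z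
      rw [h1, h2] at h3
      show Φ (v + w) = Φ v + Φ w
      refine spec_add _ I₀ z (by rw [h1]; exact hΦ v) (by rw [h2]; exact hΦ w) ?_
      rw [← h3]
      exact hΦ _
    map_smul' := fun c v => spec_smul _ I₀ rfl c v (hΦ v) (TangentStr.smul_eq c v ▸ hΦ (c • v)) }
  have hinj : ∀ v w, Φ v = Φ w → v = w := fun v w h =>
    Subtype.ext (HilbAffine.ext_ideal _ fun U =>
      le_antisymm (le_of_spec _ I₀ v w (hΦ v) (h ▸ hΦ w) U) (le_of_spec _ I₀ w v (hΦ w) (h ▸ hΦ v) U))
  refine ⟨LinearEquiv.ofBijective L ⟨hinj, fun φ => ?_⟩⟩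
  obtain ⟨I, hI⟩ := HilbPt76.exists_of_hom (X ↘ Spec (CommRingCat.of k)) I₀ φ
  refine ⟨I, ?_⟩
  refine Scheme.Modules.hom_ext _ _ fun V => ?_
  ext t
  refine FamilyHom.ext_affine _ V _ _ fun U hU => ?_
  have hnat : ∀ ψ : ClSub.idealMod I₀ ⟶ ClSub.quotMod I₀,
      (ClSub.quotMod I₀).presheaf.map (homOfLE hU).op (ψ.app V t) =
        ψ.app U.1 ((ClSub.idealMod I₀).presheaf.map (homOfLE hU).op t) := fun ψ =>
    (congr($(ψ.mapPresheaf.naturality (homOfLE hU).op) t)).symm
  rw [hnat, hnat]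
  generalize (ClSub.idealMod I₀).presheaf.map (homOfLE hU).op t = s
  obtain ⟨a, ha, hρ⟩ := exists_rep (X ↘ Spec (CommRingCat.of k)) I₀ I U s
  obtain ⟨z, hz⟩ := exists_split (X ↘ Spec (CommRingCat.of k)) U a
  rw [hρ] at hz
  exact (hΦ I U s a z ha hz).trans (hI U s a z ha hz).symm

omit [X.Over (Spec (CommRingCat.of k))] in
/-- `Hom(I, O_X) = H⁰(N)`. -/
theorem nonempty_hom_equiv {Y : Scheme.{u}} [Y.Over (Spec (CommRingCat.of k))] [X.Over (Spec (CommRingCat.of k))]
    (i : Y ⟶ X) [IsClosedImmersion i]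
    (hi : i ≫ (X ↘ Spec (CommRingCat.of k)) = Y ↘ Spec (CommRingCat.of k)) [DCoh.HasSheafHom (Omega.conormal i)] :
    Nonempty ((ClSub.idealMod i.ker ⟶ ClSub.quotMod i.ker) ≃ₗ[k]
      Coh.HH Y ((DCoh.sheafHom (Omega.conormal i)).obj (Coh.structureModule Y)) 0) := by
  let M := Omega.conormal i
  let N := Coh.structureModule Y
  obtain ⟨e0⟩ := SurfInt.nonempty_quotMod_ker i
  let e1 := Linear.homCongr k (Iso.refl (ClSub.idealMod i.ker)) e0
  let adj := Scheme.Modules.pullbackPushforwardAdjunction i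
  let g : (M ⟶ N) →ₗ[k] (ClSub.idealMod i.ker ⟶ (Scheme.Modules.pushforward i).obj N) :=
  { toFun := adj.homEquiv _ _
    map_add' := fun a b => by
      simp only [Adjunction.homEquiv_unit, Functor.map_add, Preadditive.comp_add]
    map_smul' := fun a z => by
      rw [RingHom.id_apply, KLin.smul_def, KLin.smul_def,
        show Formal.smulMod k M a ≫ z = z ≫ Formal.smulMod k (Coh.structureModule Y) a from
          (KLin.comp_smulModΓ _ _).symm,
        Adjunction.homEquiv_naturality_right,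
        Algz7.pushforward_smulMod i hi]
      exact KLin.comp_smulModΓ _ _ }
  let e2 := LinearEquiv.ofBijective g (adj.homEquiv _ _).bijective
  let ev : (Coh.structureModule Y ⟶ (SheafHomX.hom M).obj N) →ₗ[k] (M ⟶ N) :=
  { SheafHomX.ev M N with
    map_smul' := fun a z => by
      show SheafHomX.ev M N (a • z) = a • SheafHomX.ev M N z
      rw [KLin.smul_def, KLin.smul_def, show Formal.smulMod k (Coh.structureModule Y) a ≫ z =
        z ≫ Formal.smulMod k ((SheafHomX.hom M).obj N) a from (KLin.comp_smulModΓ _ _).symm,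
        ← PnDual.hom_map_smulMod, SheafHomX.ev_naturality]
      exact KLin.comp_smulModΓ _ _ }
  let e3 := LinearEquiv.ofBijective ev (SheafHomX.ev M N).bijective
  let e4 := Linear.homCongr k (Iso.refl (Coh.structureModule Y)) ((AmpleVan.sheafHomIso M).app N).symm
  let e5 := LinearEquiv.ofBijective _ (RegEpi.evalOneLin_bijective k ((DCoh.sheafHom M).obj N))
  exact ⟨e1 ≪≫ₗ e2.symm ≪≫ₗ e3.symm ≪≫ₗ e4 ≪≫ₗ e5⟩

theorem nonempty_tangent_normal [I₀.subscheme.Over (Spec (CommRingCat.of k))]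
    (hY : I₀.subscheme ↘ Spec (CommRingCat.of k) = I₀.subschemeι ≫ (X ↘ Spec (CommRingCat.of k)))
    [DCoh.HasSheafHom (Omega.conormal I₀.subschemeι)]
    [TangentStr (localHilb X (X ↘ Spec (CommRingCat.of k)) I₀)] :
    Nonempty (TangentSpace (localHilb X (X ↘ Spec (CommRingCat.of k)) I₀) ≃ₗ[k]
      Coh.HH I₀.subscheme ((DCoh.sheafHom (Omega.conormal I₀.subschemeι)).obj
        (Coh.structureModule I₀.subscheme)) 0) := by
  obtain ⟨e⟩ := nonempty_tangent_equiv (k := k) I₀
  have h := nonempty_hom_equiv (k := k) I₀.subschemeι hY.symm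
  rw [Scheme.IdealSheafData.ker_subschemeι] at h
  obtain ⟨e'⟩ := h
  exact ⟨e ≪≫ₗ e'⟩

end Groth.Agent.HilbTor76
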