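import Groth.Agent.HilbTor76.Torsor
import Groth.Agent.HilbTor76.Tangent

/-! Fibres of the local Hilbert functor over semismall extensions, and rigidity. -/

set_option autoImplicit false
set_option linter.style.haveILetI false
set_option backward.isDefEq.respectTransparency false

universe u

open CategoryTheory CategoryTheory.Limits AlgebraicGeometry ArtFun ArtFun.Art
open scoped TensorProduct

namespace Groth.Agent.HilbTor76

open Groth.Agent.ArtFunLib

variable {k : Type u} [Field k] {X : Scheme.{u}} [X.Over (Spec (CommRingCat.of k))] (I₀ : X.IdealSheafData)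
  [I₀.subscheme.Over (Spec (CommRingCat.of k))]
  (hY : I₀.subscheme ↘ Spec (CommRingCat.of k) = I₀.subschemeι ≫ (X ↘ Spec (CommRingCat.of k)))
  [DCoh.HasSheafHom (Omega.conormal I₀.subschemeι)]

include hY in
theorem exists_dual_equiv : Nonempty ((localHilb X (X ↘ Spec (CommRingCat.of k)) I₀).obj (dual k k) ≃
    Coh.HH I₀.subscheme ((DCoh.sheafHom (Omega.conormal I₀.subschemeι)).obj (Coh.structureModule I₀.subscheme)) 0) := by
  obtain ⟨T⟩ := nonempty_tangentStr (F := localHilb X (X ↘ Spec (CommRingCat.of k)) I₀)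
    (HilbFib.h0 X _ I₀) (fun B A' p' p'' h => HilbFib.cmp_bijective X _ I₀ h (toBase_surjective _))
  haveI := T
  obtain ⟨e⟩ := nonempty_tangent_normal (k := k) I₀ hY
  exact ⟨e.toEquiv⟩

include hY in
/-- A nonempty fibre is in bijection with `H⁰(N) ⊗ J`. -/
theorem nonempty_equiv_fibre_hilb {C' C : Art k k} (p : C' ⟶ C) (hp : IsSemismallExt p)
    (I : (localHilb X (X ↘ Spec (CommRingCat.of k)) I₀).obj C)
    (hne : ∃ I', (localHilb X (X ↘ Spec (CommRingCat.of k)) I₀).map p I' = I) :
    Nonempty ({I' // (localHilb X (X ↘ Spec (CommRingCat.of k)) I₀).map p I' = I} ≃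
      (Coh.HH I₀.subscheme ((DCoh.sheafHom (Omega.conormal I₀.subschemeι)).obj
        (Coh.structureModule I₀.subscheme)) 0 ⊗[k] ↥(RingHom.ker p.toAlgHom))) := by
  obtain ⟨e⟩ := exists_dual_equiv (k := k) I₀ hY
  exact nonempty_equiv_fibre (HilbFib.h0 X _ I₀) (fun h hf => HilbFib.cmp_bijective X _ I₀ h hf) e p hp I hne

omit [I₀.subscheme.Over (Spec (CommRingCat.of k))] [DCoh.HasSheafHom (Omega.conormal I₀.subschemeι)] in
theorem rigid_iff {V : Type u} [AddCommGroup V] [Module k V]
    (e : (localHilb X (X ↘ Spec (CommRingCat.of k)) I₀).obj (dual k k) ≃ V) :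
    (∀ A : Art k k, Subsingleton ((localHilb X (X ↘ Spec (CommRingCat.of k)) I₀).obj A)) ↔ Subsingleton V := by
  refine ⟨fun h => @Equiv.subsingleton _ _ e.symm (h _), fun hV A => ?_⟩
  let F := localHilb X (X ↘ Spec (CommRingCat.of k)) I₀
  refine surjective_induction (P := fun A B _ => Subsingleton (F.obj A) → Subsingleton (F.obj B)) ?_ ?_ ?_
    (toBase A) (toBase_surjective A) (HilbFib.h0 X _ I₀).2
  · intro A B e he h
    haveI := he
    exact @Function.Injective.subsingleton _ _ _ (map_bijective_of_isIso F e).1 h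
  · intro A B p hp h
    refine ⟨fun a b => ?_⟩
    obtain ⟨E⟩ := nonempty_equiv_fibre (HilbFib.h0 X _ I₀) (fun h hf => HilbFib.cmp_bijective X _ I₀ h hf) e p
      ⟨hp.1, hp.2.2.2⟩ (F.map p a) ⟨a, rfl⟩
    haveI : Subsingleton (V ⊗[k] ↥(RingHom.ker p.toAlgHom)) := by
      refine subsingleton_of_forall_eq 0 fun z => ?_
      induction z using TensorProduct.induction_on with
      | zero => rfl
      | tmul v w => rw [hV.elim v 0, TensorProduct.zero_tmul]
      | add y z hy hz => rw [hy, hz, add_zero]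
    exact congrArg Subtype.val (E.injective (Subsingleton.elim (E ⟨a, rfl⟩) (E ⟨b, h.elim _ _⟩)))
  · intro A B C p q _ _ h1 h2 h
    exact h1 (h2 h)

theorem exists_dual_equiv_of_immersion {Y : Scheme.{u}} [Y.Over (Spec (CommRingCat.of k))]
    (i : Y ⟶ X) [IsClosedImmersion i]
    (hi : i ≫ (X ↘ Spec (CommRingCat.of k)) = Y ↘ Spec (CommRingCat.of k)) [DCoh.HasSheafHom (Omega.conormal i)] :
    Nonempty ((localHilb X (X ↘ Spec (CommRingCat.of k)) i.ker).obj (dual k k) ≃
      Coh.HH Y ((DCoh.sheafHom (Omega.conormal i)).obj (Coh.structureModule Y)) 0) := by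
  obtain ⟨T⟩ := nonempty_tangentStr (F := localHilb X (X ↘ Spec (CommRingCat.of k)) i.ker)
    (HilbFib.h0 X _ i.ker) (fun B A' p' p'' h => HilbFib.cmp_bijective X _ i.ker h (toBase_surjective _))
  haveI := T
  obtain ⟨e⟩ := nonempty_tangent_equiv (k := k) i.ker
  obtain ⟨e'⟩ := nonempty_hom_equiv (k := k) i hi
  exact ⟨(e ≪≫ₗ e').toEquiv⟩

end Groth.Agent.HilbTor76
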