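import Groth.Agent.ArtFunLib.Tangent
import Groth.Agent.HilbObs76.Split
import Mathlib.LinearAlgebra.TensorProduct.Pi

/-! A nonempty fibre over a semismall extension is in bijection with the tangent space tensor the kernel. -/

set_option autoImplicit false
set_option linter.style.haveILetI false
set_option backward.isDefEq.respectTransparency false

universe u v

open CategoryTheory ArtFun ArtFun.Art
open scoped TensorProduct

namespace Groth.Agent.HilbTor76

open Groth.Agent.ArtFunLib Groth.Agent.HilbObs76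

variable {k : Type u} [Field k]

/-- `k ⊕ k^d`. -/
noncomputable abbrev pow (d : ℕ) : Art k k := tsze (Λ := k) (k := k) (Fin d → k)

/-- A linear map of coefficient spaces. -/
noncomputable def powMap {d e : ℕ} (l : (Fin d → k) →ₗ[k] (Fin e → k)) : (pow d : Art k k) ⟶ pow e :=
  ⟨tszeMap l, AlgHom.ext fun _ => rfl⟩

/-- A coordinate. -/
noncomputable def powProj {d : ℕ} (i : Fin d) : (pow d : Art k k) ⟶ dual k k :=
  ⟨tszeMap (LinearMap.proj i), AlgHom.ext fun _ => rfl⟩

theorem isFibreProd_pow (d : ℕ) :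
    IsFibreProd (powMap (LinearMap.funLeft k k Fin.castSucc) : (pow (d + 1) : Art k k) ⟶ pow d)
      (powProj (Fin.last d)) (toBase _) (toBase (dual k k)) where
  w := by rw [eq_toBase (_ ≫ toBase (pow d)), eq_toBase (_ ≫ toBase (dual k k))]
  inj b₁ b₂ h₁ h₂ := by
    have e₁ : b₁.fst = b₂.fst := by have e := congrArg TrivSqZeroExt.fst h₁; exact e
    have e₂ : ∀ i : Fin d, b₁.snd i.castSucc = b₂.snd i.castSucc := fun i => by
      have e := congrFun (congrArg TrivSqZeroExt.snd h₁) i; exact e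
    have e₃ : b₁.snd (Fin.last d) = b₂.snd (Fin.last d) := by have e := congrArg TrivSqZeroExt.snd h₂; exact e
    exact TrivSqZeroExt.ext e₁ (funext fun i => Fin.lastCases e₃ e₂ i)
  surj a' a'' h := by
    have h' : a'.fst = a''.fst := h
    exact ⟨(a'.fst, Fin.snoc a'.snd a''.snd), TrivSqZeroExt.ext rfl (funext fun i => Fin.snoc_castSucc (α := fun _ => k) _ _ i),
      TrivSqZeroExt.ext h' (Fin.snoc_last (α := fun _ => k) _ _)⟩

variable {F : Art k k ⥤ Type v} (h0 : H0 F)
  (hF : ∀ {B A A' A'' : Art k k} {p' : B ⟶ A'} {p'' : B ⟶ A''} {f' : A' ⟶ A} {f'' : A'' ⟶ A}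
      (h : IsFibreProd p' p'' f' f''), Function.Surjective f'' → Function.Bijective (cmp F h))

include h0 hF

theorem bijective_pow : ∀ d : ℕ,
    Function.Bijective (fun (w : F.obj (pow d : Art k k)) (i : Fin d) => F.map (powProj i) w) := by
  intro d
  induction d with
  | zero =>
    haveI : IsIso (toBase (pow 0 : Art k k)) := isIso_of_bijective _
      ⟨fun a b e => TrivSqZeroExt.ext (e : a.fst = b.fst) (Subsingleton.elim _ _), toBase_surjective _⟩
    have hb := map_bijective_of_isIso F (toBase (pow 0 : Art k k))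
    refine ⟨fun a b _ => hb.1 (h0.2.elim _ _), fun g => ?_⟩
    obtain ⟨b₀⟩ := h0.1
    obtain ⟨w, -⟩ := hb.2 b₀
    exact ⟨w, Subsingleton.elim _ _⟩
  | succ d ih =>
    have hc := hF (isFibreProd_pow (k := k) d) (toBase_surjective _)
    have hproj : ∀ i : Fin d, powMap (LinearMap.funLeft k k Fin.castSucc) ≫ powProj i =
        (powProj i.castSucc : (pow (d + 1) : Art k k) ⟶ _) := fun i =>
      hom_apply_ext fun _ => TrivSqZeroExt.ext rfl rfl
    refine ⟨fun a b e => cmp_ext hc.1 (ih.1 (funext fun i => ?_)) (congrFun e (Fin.last d)), fun g => ?_⟩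
    · show F.map (powProj i) (F.map _ a) = F.map (powProj i) (F.map _ b)
      rw [← map_comp', ← map_comp', hproj]
      exact congrFun e i.castSucc
    · obtain ⟨w', hw'⟩ := ih.2 fun i => g i.castSucc
      obtain ⟨w, h₁, h₂⟩ := exists_of_cmp_surjective hc.2 w' (g (Fin.last d)) (map_toBase_eq h0 _ _)
      refine ⟨w, funext fun i => Fin.lastCases h₂ (fun i => ?_) i⟩
      show F.map (powProj i.castSucc) w = _
      rw [← hproj, map_comp', h₁]
      exact congrFun hw' i

theorem nonempty_equiv_fibre_pow {B A : Art k k} (p : B ⟶ A) (hp : IsSemismallExt p) (u : F.obj A)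
    (hne : ∃ u', F.map p u' = u) (d : ℕ) (e : RingHom.ker p.toAlgHom ≃ₗ[k] (Fin d → k)) :
    Nonempty ({u' // F.map p u' = u} ≃ F.obj (pow d : Art k k)) := by
  obtain ⟨P, p₁, p₂, hP⟩ := exists_isFibreProd p p hp.1
  have hd : ∀ z : P, p₂ z - p₁ z ∈ RingHom.ker p.toAlgHom := fun z => by
    rw [mem_ker_iff, map_sub, hP.w_apply, sub_self]
  let q : P → RingHom.ker p.toAlgHom := fun z => ⟨_, hd z⟩
  have hqone : q 1 = 0 := Subtype.ext (by
    show p₂ (1 : P) - p₁ (1 : P) = 0
    rw [map_one p₂.toAlgHom, map_one p₁.toAlgHom, sub_self])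
  have hqzero : q 0 = 0 := Subtype.ext (by
    show p₂ (0 : P) - p₁ (0 : P) = 0
    rw [map_zero p₂.toAlgHom, map_zero p₁.toAlgHom, sub_self])
  have hqadd : ∀ a b, q (a + b) = q a + q b := fun a b => Subtype.ext (by
    show p₂ (a + b) - p₁ (a + b) = (p₂ a - p₁ a) + (p₂ b - p₁ b)
    rw [map_add p₂.toAlgHom, map_add p₁.toAlgHom]; abel)
  have hqmul : ∀ a b, q (a * b) = P.res a • q b + P.res b • q a := fun a b => Subtype.ext (by
    show p₂ (a * b) - p₁ (a * b) = P.res a • (p₂ b - p₁ b) + P.res b • (p₂ a - p₁ a)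
    rw [← res_app p₁ a, ← res_app p₂ b, ← mul_eq_res_smul p hp _ (hd b), ← mul_eq_res_smul p hp _ (hd a),
      map_mul p₂.toAlgHom, map_mul p₁.toAlgHom]
    ring)
  have hqalg : ∀ c : k, q (algebraMap k P c) = 0 := fun c => Subtype.ext (by
    show p₂ (algebraMap k P c) - p₁ (algebraMap k P c) = 0
    rw [p₂.toAlgHom.commutes, p₁.toAlgHom.commutes, sub_self])
  let G : P →ₐ[k] TrivSqZeroExt k (Fin d → k) :=
    { toFun := fun z => (P.res z, e (q z))
      map_one' := TrivSqZeroExt.ext (map_one _) (by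
        show e (q 1) = _
        rw [hqone, map_zero, TrivSqZeroExt.snd_one])
      map_zero' := TrivSqZeroExt.ext (map_zero _) (by
        show e (q 0) = _
        rw [hqzero, map_zero, TrivSqZeroExt.snd_zero])
      map_add' := fun a b => TrivSqZeroExt.ext (map_add _ _ _) (by
        show e (q (a + b)) = e (q a) + e (q b)
        rw [hqadd, map_add])
      map_mul' := fun a b => TrivSqZeroExt.ext (map_mul _ _ _) (by
        show e (q (a * b)) = P.res a • e (q b) + MulOpposite.op (P.res b) • e (q a)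
        rw [hqmul, map_add, map_smul, map_smul, op_smul_eq_smul])
      commutes' := fun c => TrivSqZeroExt.ext (P.res.commutes c) (by
        show e (q (algebraMap k P c)) = _
        rw [hqalg, map_zero, TrivSqZeroExt.algebraMap_eq_inl', TrivSqZeroExt.snd_inl]) }
  let g : P ⟶ (pow d : Art k k) := ⟨G, rfl⟩
  have hg : IsFibreProd p₁ g (toBase B) (toBase (pow d : Art k k)) :=
  { w := by rw [eq_toBase (p₁ ≫ toBase B), eq_toBase (g ≫ toBase _)]
    inj := fun z₁ z₂ e₁ e₂ => hP.inj _ _ e₁ (by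
      have h : p₂ z₁ - p₁ z₁ = p₂ z₂ - p₁ z₂ :=
        congrArg Subtype.val (e.injective (congrArg TrivSqZeroExt.snd e₂ : e (q z₁) = e (q z₂)))
      rwa [e₁, sub_left_inj] at h)
    surj := fun b a eb => by
      let j := e.symm a.snd
      obtain ⟨z, hz₁, hz₂⟩ := hP.surj b (b + (j : B)) (by rw [map_add, (mem_ker_iff p _).1 j.2, add_zero])
      refine ⟨z, hz₁, TrivSqZeroExt.ext ?_ ?_⟩
      · show P.res z = a.fst
        rw [← res_app p₁, hz₁]
        exact eb
      · show e (q z) = a.snd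
        rw [show q z = j from Subtype.ext (show p₂ z - p₁ z = j by rw [hz₁, hz₂, add_sub_cancel_left]),
          e.apply_symm_apply] }
  obtain ⟨u₁, hu₁⟩ := hne
  have hbP := hF hP hp.1
  have hbg := hF hg (toBase_surjective _)
  let S := {z : F.obj P // F.map p₁ z = u₁}
  let f₁ : S → F.obj (pow d : Art k k) := fun z => F.map g z.1
  have hf₁ : Function.Bijective f₁ := by
    refine ⟨fun z z' e => Subtype.ext (cmp_ext hbg.1 (z.2.trans z'.2.symm) e), fun w => ?_⟩
    obtain ⟨z, h₁, h₂⟩ := exists_of_cmp_surjective hbg.2 u₁ w (map_toBase_eq h0 _ _)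
    exact ⟨⟨z, h₁⟩, h₂⟩
  let f₂ : S → {u' // F.map p u' = u} := fun z => ⟨F.map p₂ z.1, by
    rw [← map_comp', ← hP.w, map_comp', z.2, hu₁]⟩
  have hf₂ : Function.Bijective f₂ := by
    refine ⟨fun z z' e => Subtype.ext (cmp_ext hbP.1 (z.2.trans z'.2.symm) (congrArg Subtype.val e)), fun u' => ?_⟩
    obtain ⟨z, h₁, h₂⟩ := exists_of_cmp_surjective hbP.2 u₁ u'.1 (hu₁.trans u'.2.symm)
    exact ⟨⟨z, h₁⟩, Subtype.ext h₂⟩
  exact ⟨(Equiv.ofBijective f₂ hf₂).symm.trans (Equiv.ofBijective f₁ hf₁)⟩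

/-- A nonempty fibre is in bijection with `t_F ⊗ J`. -/
theorem nonempty_equiv_fibre {V : Type u} [AddCommGroup V] [Module k V] (eV : F.obj (dual k k) ≃ V) {B A : Art k k}
    (p : B ⟶ A) (hp : IsSemismallExt p) (u : F.obj A) (hne : ∃ u', F.map p u' = u) :
    Nonempty ({u' // F.map p u' = u} ≃ V ⊗[k] ↥(RingHom.ker p.toAlgHom)) := by
  haveI := finite_ker p
  let e := (Module.finBasis k (RingHom.ker p.toAlgHom)).equivFun
  obtain ⟨E⟩ := nonempty_equiv_fibre_pow h0 hF p hp u hne _ e
  exact ⟨E.trans ((Equiv.ofBijective _ (bijective_pow h0 hF _)).trans ((Equiv.piCongrRight fun _ => eV).trans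
    ((TensorProduct.piScalarRight k k V _).symm.toEquiv.trans (LinearEquiv.lTensor V e.symm).toEquiv)))⟩

end Groth.Agent.HilbTor76
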